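import Groth.Agent.AS7.Triangular
import Groth.Agent.PSLib.Basic
import Groth.Agent.PSLib.Regular
import Groth.Agent.AdicLib.Basic
import Groth.Agent.RegLoc6.Basic
import Groth.Agent.EGA41Lib.IntDim
import Mathlib.RingTheory.AdicCompletion.Algebra
import Mathlib.LinearAlgebra.Dimension.StrongRankCondition
import Mathlib.RingTheory.KrullDimension.Basic

/-!
The Artin–Schreier family `u_i ^ p - a_i ^ (p-1) u_i = x_i` over a power series ring.
-/

set_option maxHeartbeats 1000000
attribute [-instance] Ideal.Quotient.semiring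

namespace Groth.Agent.AS7

universe u

open MvPolynomial IsLocalRing

variable {p n : ℕ} {k : Type u} [Field k] (a : Fin n → MvPowerSeries (Fin n) k)

/-- The one-variable equation. -/
noncomputable def fp (p : ℕ) (i : Fin n) : Polynomial (MvPowerSeries (Fin n) k) :=
  Polynomial.X ^ p - Polynomial.C (a i ^ (p - 1)) * Polynomial.X - Polynomial.C (MvPowerSeries.X i)

/-- The ideal of relations. -/
noncomputable def rel (p : ℕ) : Ideal (MvPolynomial (Fin n) (MvPowerSeries (Fin n) k)) :=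
  Ideal.span (Set.range fun i : Fin n =>
    X i ^ p - C (a i ^ (p - 1)) * X i - C (MvPowerSeries.X i))

variable {a}

theorem fp_monic (hp : 1 < p) (i : Fin n) : (fp a p i).Monic ∧ (fp a p i).natDegree = p := by
  have h : fp a p i = Polynomial.X ^ p -
      (Polynomial.C (a i ^ (p - 1)) * Polynomial.X + Polynomial.C (MvPowerSeries.X i)) := sub_sub _ _ _
  have hdeg : (Polynomial.C (a i ^ (p - 1)) * Polynomial.X + Polynomial.C (MvPowerSeries.X i)).degree
      < (p : WithBot ℕ) :=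
    lt_of_le_of_lt Polynomial.degree_linear_le (by exact_mod_cast hp)
  rw [h]
  refine ⟨Polynomial.monic_X_pow_sub hdeg, Polynomial.natDegree_eq_of_degree_eq_some ?_⟩
  rw [Polynomial.degree_sub_eq_left_of_degree_lt (by rwa [Polynomial.degree_X_pow]),
    Polynomial.degree_X_pow]

theorem aeval_fp (i : Fin n) :
    Polynomial.aeval (X i : MvPolynomial (Fin n) (MvPowerSeries (Fin n) k)) (fp a p i) =
      X i ^ p - C (a i ^ (p - 1)) * X i - C (MvPowerSeries.X i) := by
  simp [fp, MvPolynomial.algebraMap_eq]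

theorem u_pow (i : Fin n) : (Ideal.Quotient.mk (rel a p) (X i)) ^ p =
    algebraMap (MvPowerSeries (Fin n) k) _ (a i ^ (p - 1)) * Ideal.Quotient.mk (rel a p) (X i) +
      algebraMap (MvPowerSeries (Fin n) k) _ (MvPowerSeries.X i) := by
  rw [← sub_eq_zero, ← sub_sub]
  show (Ideal.Quotient.mk (rel a p) (X i)) ^ p -
    Ideal.Quotient.mk (rel a p) (C (a i ^ (p - 1))) * Ideal.Quotient.mk (rel a p) (X i) -
    Ideal.Quotient.mk (rel a p) (C (MvPowerSeries.X i)) = 0
  rw [← map_pow, ← map_mul, ← map_sub, ← map_sub, Ideal.Quotient.eq_zero_iff_mem]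
  exact Ideal.subset_span ⟨i, rfl⟩

theorem exists_basis_family (hp : 1 < p) :
    ∃ b : Module.Basis (Fin n → Fin p) (MvPowerSeries (Fin n) k)
        (MvPolynomial (Fin n) (MvPowerSeries (Fin n) k) ⧸ rel a p),
      ∀ e, b e = ∏ i, (Ideal.Quotient.mk (rel a p) (X i)) ^ (e i : ℕ) := by
  have h : rel a p = Ideal.span (Set.range fun i =>
      Polynomial.aeval (X i : MvPolynomial (Fin n) (MvPowerSeries (Fin n) k)) (fp a p i)) := by
    simp only [aeval_fp]; rfl
  rw [h]
  exact exists_basis (fp a p) (fun i => (fp_monic hp i).1) (fun i => (fp_monic hp i).2)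
    (Nat.lt_of_succ_lt hp)

theorem free (hp : 1 < p) :
    Module.Free (MvPowerSeries (Fin n) k) (MvPolynomial (Fin n) (MvPowerSeries (Fin n) k) ⧸ rel a p) ∧
      Module.Finite (MvPowerSeries (Fin n) k) (MvPolynomial (Fin n) (MvPowerSeries (Fin n) k) ⧸ rel a p) ∧
      Module.finrank (MvPowerSeries (Fin n) k) (MvPolynomial (Fin n) (MvPowerSeries (Fin n) k) ⧸ rel a p) =
        p ^ n := by
  obtain ⟨b, -⟩ := exists_basis_family (a := a) hp
  refine ⟨Module.Free.of_basis b, Module.Finite.of_basis b, ?_⟩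
  rw [Module.finrank_eq_card_basis b]
  simp

/-- The ideal generated by the `u_i`. -/
noncomputable def uIdeal (a : Fin n → MvPowerSeries (Fin n) k) (p : ℕ) :
    Ideal (MvPolynomial (Fin n) (MvPowerSeries (Fin n) k) ⧸ rel a p) :=
  Ideal.map (Ideal.Quotient.mk (rel a p))
    (Ideal.span (Set.range (X : Fin n → MvPolynomial (Fin n) (MvPowerSeries (Fin n) k))))

theorem uIdeal_eq : uIdeal a p = Ideal.span (Set.range fun i => Ideal.Quotient.mk (rel a p) (X i)) := by
  rw [uIdeal, Ideal.map_span, ← Set.range_comp]; rfl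

theorem map_maximalIdeal_le (hp : 1 < p) :
    (maximalIdeal (MvPowerSeries (Fin n) k)).map
      (algebraMap _ (MvPolynomial (Fin n) (MvPowerSeries (Fin n) k) ⧸ rel a p)) ≤ uIdeal a p := by
  rw [PSLib.maximalIdeal_eq_vars, PSLib.vars, Ideal.map_span, Ideal.span_le]
  rintro _ ⟨_, ⟨i, rfl⟩, rfl⟩
  have hu : Ideal.Quotient.mk (rel a p) (X i) ∈ uIdeal a p :=
    Ideal.mem_map_of_mem _ (Ideal.subset_span ⟨i, rfl⟩)
  rw [SetLike.mem_coe, show algebraMap _ _ (MvPowerSeries.X i) =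
    (Ideal.Quotient.mk (rel a p) (X i)) ^ p -
      algebraMap _ _ (a i ^ (p - 1)) * Ideal.Quotient.mk (rel a p) (X i) by rw [u_pow]; ring]
  exact sub_mem (Ideal.pow_mem_of_mem _ hu _ (Nat.lt_of_succ_lt hp)) (Ideal.mul_mem_left _ _ hu)

theorem exists_const (hp : 1 < p) (x : MvPolynomial (Fin n) (MvPowerSeries (Fin n) k) ⧸ rel a p) :
    ∃ c : k, x - algebraMap (MvPowerSeries (Fin n) k) _ (MvPowerSeries.C c) ∈ uIdeal a p := by
  have hr : ∀ r : MvPowerSeries (Fin n) k, ∃ c : k,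
      algebraMap _ _ r - algebraMap (MvPowerSeries (Fin n) k) _ (MvPowerSeries.C c) ∈ uIdeal a p := fun r => by
    refine ⟨MvPowerSeries.constantCoeff r, ?_⟩
    rw [← map_sub]
    refine map_maximalIdeal_le hp (Ideal.mem_map_of_mem _ ?_)
    rw [mem_maximalIdeal, mem_nonunits_iff, MvPowerSeries.isUnit_iff_constantCoeff, map_sub,
      MvPowerSeries.constantCoeff_C, sub_self]
    exact not_isUnit_zero
  obtain ⟨q, rfl⟩ := Ideal.Quotient.mk_surjective x
  induction q using MvPolynomial.induction_on with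
  | C r => exact hr r
  | add q q' hq hq' =>
    obtain ⟨c, hc⟩ := hq
    obtain ⟨c', hc'⟩ := hq'
    exact ⟨c + c', by rw [map_add, map_add, map_add, add_sub_add_comm]; exact add_mem hc hc'⟩
  | mul_X q i _ =>
    refine ⟨0, ?_⟩
    rw [map_zero, map_zero, sub_zero, map_mul]
    exact Ideal.mul_mem_left _ _ (Ideal.mem_map_of_mem _ (Ideal.subset_span ⟨i, rfl⟩))

theorem uIdeal_le (hp : 1 < p) (ham : ∀ i, MvPowerSeries.constantCoeff (a i) = 0)
    (M : Ideal (MvPolynomial (Fin n) (MvPowerSeries (Fin n) k) ⧸ rel a p)) [hM : M.IsMaximal] :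
    uIdeal a p ≤ M := by
  obtain ⟨-, hfin, -⟩ := free (a := a) hp
  have : Algebra.IsIntegral (MvPowerSeries (Fin n) k)
      (MvPolynomial (Fin n) (MvPowerSeries (Fin n) k) ⧸ rel a p) := Algebra.IsIntegral.of_finite _ _
  have hc : (maximalIdeal (MvPowerSeries (Fin n) k)).map (algebraMap _ _) ≤ M :=
    Ideal.map_le_iff_le_comap.mpr (eq_maximalIdeal (Ideal.isMaximal_comap_of_isIntegral_of_isMaximal (R := MvPowerSeries (Fin n) k) (S := MvPolynomial (Fin n) (MvPowerSeries (Fin n) k) ⧸ rel a p) M)).ge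
  rw [uIdeal_eq, Ideal.span_le]
  rintro _ ⟨i, rfl⟩
  have : M.IsPrime := @Ideal.IsMaximal.isPrime (MvPolynomial (Fin n) (MvPowerSeries (Fin n) k) ⧸ rel a p) _ M hM
  refine this.mem_of_pow_mem p ?_
  rw [u_pow]
  refine add_mem (Ideal.mul_mem_right _ _ (hc (Ideal.mem_map_of_mem _ ?_))) (hc (Ideal.mem_map_of_mem _ ?_))
  · refine Ideal.pow_mem_of_mem _ ?_ _ (Nat.sub_pos_of_lt hp)
    rw [mem_maximalIdeal, mem_nonunits_iff, MvPowerSeries.isUnit_iff_constantCoeff, ham]
    exact not_isUnit_zero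
  · rw [PSLib.maximalIdeal_eq_vars]
    exact Ideal.subset_span ⟨i, rfl⟩

theorem uIdeal_isMaximal (hp : 1 < p) (ham : ∀ i, MvPowerSeries.constantCoeff (a i) = 0) :
    (uIdeal a p).IsMaximal := by
  obtain ⟨b, -⟩ := exists_basis_family (a := a) hp
  have : Nonempty (Fin n → Fin p) := ⟨fun _ => ⟨0, Nat.lt_of_succ_lt hp⟩⟩
  have : Nontrivial (MvPolynomial (Fin n) (MvPowerSeries (Fin n) k) ⧸ rel a p) := b.repr.toEquiv.nontrivial
  obtain ⟨M, hM⟩ := Ideal.exists_maximal (MvPolynomial (Fin n) (MvPowerSeries (Fin n) k) ⧸ rel a p)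
  have := uIdeal_le hp ham M
  refine Ideal.isMaximal_iff.mpr ⟨fun h => hM.ne_top ((Ideal.eq_top_iff_one M).mpr (this h)),
    fun J x hJ hxu hxJ => ?_⟩
  have hx := exists_const hp x
  obtain ⟨c, hc⟩ := hx
  have hc0 : c ≠ 0 := fun e => hxu (by simpa [e] using hc)
  have hcJ : algebraMap (MvPowerSeries (Fin n) k) _ (MvPowerSeries.C c) ∈ J := by
    simpa using sub_mem hxJ (hJ hc)
  have := J.eq_top_of_isUnit_mem hcJ (((isUnit_iff_ne_zero.mpr hc0).map MvPowerSeries.C).map
    (algebraMap (MvPowerSeries (Fin n) k) (MvPolynomial (Fin n) (MvPowerSeries (Fin n) k) ⧸ rel a p)))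
  exact this ▸ Submodule.mem_top

theorem isLocalRing (hp : 1 < p) (ham : ∀ i, MvPowerSeries.constantCoeff (a i) = 0) :
    IsLocalRing (MvPolynomial (Fin n) (MvPowerSeries (Fin n) k) ⧸ rel a p) :=
  IsLocalRing.of_unique_max_ideal (R := MvPolynomial (Fin n) (MvPowerSeries (Fin n) k) ⧸ rel a p) ⟨uIdeal a p, uIdeal_isMaximal hp ham, fun M hM =>
    ((uIdeal_isMaximal hp ham).eq_of_le hM.ne_top (uIdeal_le hp ham M)).symm⟩

theorem regular (hp : 1 < p) (ham : ∀ i, MvPowerSeries.constantCoeff (a i) = 0) :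
    IsRegularLocalRing (MvPolynomial (Fin n) (MvPowerSeries (Fin n) k) ⧸ rel a p) := by
  have := isLocalRing hp ham
  obtain ⟨hfree, hfin, -⟩ := free (a := a) hp
  have : IsNoetherianRing (MvPolynomial (Fin n) (MvPowerSeries (Fin n) k) ⧸ rel a p) := by
    have := PSLib.isRegularLocalRing k n
    exact IsNoetherianRing.of_finite (MvPowerSeries (Fin n) k) _
  refine IsRegularLocalRing.of_spanFinrank_maximalIdeal_le _ ?_
  have hinj : Function.Injective (algebraMap (MvPowerSeries (Fin n) k)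
      (MvPolynomial (Fin n) (MvPowerSeries (Fin n) k) ⧸ rel a p)) := by
    rw [injective_iff_map_eq_zero]
    intro r hr
    obtain ⟨b, -⟩ := exists_basis_family (a := a) hp
    have h0 : ∀ x : MvPolynomial (Fin n) (MvPowerSeries (Fin n) k) ⧸ rel a p,
        algebraMap (MvPowerSeries (Fin n) k) (MvPolynomial (Fin n) (MvPowerSeries (Fin n) k) ⧸ rel a p) r * x = 0 :=
      fun x => by rw [hr, zero_mul]
    have h1 : r • b (fun _ => ⟨0, Nat.lt_of_succ_lt hp⟩) = 0 :=
      (algebra_compatible_smul (MvPolynomial (Fin n) (MvPowerSeries (Fin n) k) ⧸ rel a p) r _).trans (h0 _)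
    have h := congrArg (fun x => b.repr x (fun _ => ⟨0, Nat.lt_of_succ_lt hp⟩)) h1
    simpa using h
  have : Algebra.IsIntegral (MvPowerSeries (Fin n) k)
      (MvPolynomial (Fin n) (MvPowerSeries (Fin n) k) ⧸ rel a p) := Algebra.IsIntegral.of_finite _ _
  have : FaithfulSMul (MvPowerSeries (Fin n) k)
      (MvPolynomial (Fin n) (MvPowerSeries (Fin n) k) ⧸ rel a p) :=
    (faithfulSMul_iff_algebraMap_injective _ _).mpr hinj
  rw [EGA41Lib.ringKrullDim_eq_of_integral (A := MvPowerSeries (Fin n) k)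
    (B := MvPolynomial (Fin n) (MvPowerSeries (Fin n) k) ⧸ rel a p) hinj, PSLib.ringKrullDim_eq,
    ← eq_maximalIdeal (uIdeal_isMaximal hp ham), uIdeal_eq]
  have := (Submodule.spanFinrank_span_le_ncard_of_finite
    (R := MvPolynomial (Fin n) (MvPowerSeries (Fin n) k) ⧸ rel a p)
    (Set.finite_range fun i => Ideal.Quotient.mk (rel a p) (X i))).trans
    (le_trans (by rw [← Nat.card_coe_set_eq]; exact Finite.card_range_le _) (Nat.card_fin n).le)
  exact_mod_cast this

theorem isAdicComplete (hp : 1 < p) (ham : ∀ i, MvPowerSeries.constantCoeff (a i) = 0) :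
    IsAdicComplete (R := MvPolynomial (Fin n) (MvPowerSeries (Fin n) k) ⧸ rel a p) (uIdeal a p) (MvPolynomial (Fin n) (MvPowerSeries (Fin n) k) ⧸ rel a p) := by
  obtain ⟨hfree, hfin, -⟩ := free (a := a) hp
  have := PSLib.isRegularLocalRing k n
  have := isLocalRing hp ham
  have : IsNoetherianRing (MvPolynomial (Fin n) (MvPowerSeries (Fin n) k) ⧸ rel a p) :=
    IsNoetherianRing.of_finite (MvPowerSeries (Fin n) k) _
  let J := (PSLib.vars n k).map (algebraMap (MvPowerSeries (Fin n) k)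
    (MvPolynomial (Fin n) (MvPowerSeries (Fin n) k) ⧸ rel a p))
  have hJ : IsAdicComplete (R := MvPolynomial (Fin n) (MvPowerSeries (Fin n) k) ⧸ rel a p) J (MvPolynomial (Fin n) (MvPowerSeries (Fin n) k) ⧸ rel a p) :=
    (IsAdicComplete.map_algebraMap_iff (S := MvPolynomial (Fin n) (MvPowerSeries (Fin n) k) ⧸ rel a p) (PSLib.vars n k)
      (MvPolynomial (Fin n) (MvPowerSeries (Fin n) k) ⧸ rel a p)).mpr
      (AdicLib.isAdicComplete_of_finite (PSLib.vars n k) (MvPolynomial (Fin n) (MvPowerSeries (Fin n) k) ⧸ rel a p))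
  have hle : J ≤ uIdeal a p := by
    have := map_maximalIdeal_le (a := a) hp
    rwa [PSLib.maximalIdeal_eq_vars] at this
  have hu : ∀ i, (Ideal.Quotient.mk (rel a p) (X i)) ^ p ∈ J := fun i => by
    rw [u_pow]
    refine add_mem (Ideal.mul_mem_right _ _ (Ideal.mem_map_of_mem _ ?_))
      (Ideal.mem_map_of_mem _ (Ideal.subset_span ⟨i, rfl⟩))
    refine Ideal.pow_mem_of_mem _ ?_ _ (Nat.sub_pos_of_lt hp)
    rw [← PSLib.maximalIdeal_eq_vars, mem_maximalIdeal, mem_nonunits_iff,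
      MvPowerSeries.isUnit_iff_constantCoeff, ham]
    exact not_isUnit_zero
  have hrad : uIdeal a p ≤ J.radical := by
    rw [uIdeal_eq, Ideal.span_le]
    rintro _ ⟨i, rfl⟩
    exact ⟨p, hu i⟩
  obtain ⟨c, hc⟩ := Ideal.exists_pow_le_of_le_radical_of_fg_radical hrad (IsNoetherian.noetherian _)
  exact (AdicLib.iff_of_pow_le (c := c + 1) (d := 1) (Nat.succ_pos _) one_pos
    ((Ideal.pow_le_pow_right (Nat.le_succ c)).trans hc) (by rw [pow_one]; exact hle)).mpr hJ

theorem isDomain (hp : 1 < p) (ham : ∀ i, MvPowerSeries.constantCoeff (a i) = 0) :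
    IsDomain (MvPolynomial (Fin n) (MvPowerSeries (Fin n) k) ⧸ rel a p) :=
  have := regular hp ham
  RegLoc6.isDomain_of_isRegularLocalRing (MvPolynomial (Fin n) (MvPowerSeries (Fin n) k) ⧸ rel a p)

end Groth.Agent.AS7
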