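import Groth.Agent.AS7.Family

/-!
# The fixed point ideal of the Artin–Schreier family
-/

universe u

open MvPolynomial IsLocalRing

namespace Groth.Agent.AS7

/-- Length of `A/JA` for a finite free local algebra with trivial residue extension. -/
theorem length_quotient_map {R A : Type u} [CommRing R] [IsLocalRing R] [CommRing A] [IsLocalRing A] [Algebra R A]
    [IsLocalHom (algebraMap R A)] [Module.Free R A] [Module.Finite R A]
    (hres : Function.Surjective (residue A ∘ algebraMap R A)) (J : Ideal R) :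
    Module.length A (A ⧸ J.map (algebraMap R A)) = (Module.finrank R A : ℕ∞) * Module.length R (R ⧸ J) := by
  rcases eq_or_ne J ⊤ with rfl | hJ
  · rw [Ideal.map_top, Module.length_eq_zero, Module.length_eq_zero, mul_zero]
  haveI : Nontrivial (R ⧸ J) := Ideal.Quotient.nontrivial_iff.mpr hJ
  have h1 : Module.length (ResidueField R) (ResidueField A) = 1 := by
    have hb : Function.Bijective (Algebra.linearMap (ResidueField R) (ResidueField A)) := by
      refine ⟨(algebraMap (ResidueField R) (ResidueField A)).injective, fun z => ?_⟩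
      obtain ⟨r, rfl⟩ := hres z
      exact ⟨residue R r, rfl⟩
    rw [← (LinearEquiv.ofBijective _ hb).length_eq]
    exact Module.length_eq_one _ _
  have h2 := IsLocalRing.length_restrictScalars R A (A ⧸ J.map (algebraMap R A))
  rw [h1, mul_one] at h2
  rw [← h2]
  let e : (A ⧸ J.map (algebraMap R A)) ≃ₗ[R] TensorProduct R (R ⧸ J) A :=
    ((Algebra.TensorProduct.quotIdealMapEquivTensorQuot A J).toLinearEquiv.restrictScalars R).trans
      (TensorProduct.comm R A (R ⧸ J))
  rw [e.length_eq, Module.length_eq_of_surjective (S := R) (R := R ⧸ J) Ideal.Quotient.mk_surjective,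
    Module.length_of_free_of_finite, Module.finrank_baseChange,
    Module.length_eq_of_surjective (S := R) (R := R ⧸ J) (M := R ⧸ J) Ideal.Quotient.mk_surjective]

theorem length_quotient_of_eq {R A : Type u} [CommRing R] [IsLocalRing R] [CommRing A] [Algebra R A]
    (hA : IsLocalRing A) (hf : Module.Free R A) (hfin : Module.Finite R A) {N : ℕ} (hN : Module.finrank R A = N)
    (U : Ideal A) (hU : U.IsMaximal) (hle : (maximalIdeal R).map (algebraMap R A) ≤ U)
    (hconst : ∀ z : A, ∃ r : R, z - algebraMap R A r ∈ U) (J : Ideal R) (S : Ideal A)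
    (hS : S = J.map (algebraMap R A)) :
    Module.length A (A ⧸ S) = (N : ℕ∞) * Module.length R (R ⧸ J) := by
  subst hS hN
  have hmax := eq_maximalIdeal hU
  have : IsLocalHom (algebraMap R A) := ((local_hom_TFAE _).out 0 2 rfl rfl).mpr (hle.trans hmax.le)
  refine length_quotient_map (fun z => ?_) J
  obtain ⟨t, rfl⟩ := residue_surjective z
  obtain ⟨r, hr⟩ := hconst t
  refine ⟨r, ?_⟩
  rw [Function.comp_apply, ← sub_eq_zero, ← map_sub, residue_eq_zero_iff, ← neg_sub, neg_mem_iff, ← hmax]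
  exact hr

variable {p n : ℕ} {k : Type u} [Field k] {a : Fin n → MvPowerSeries (Fin n) k}

theorem fixed_span_eq (σ : (MvPolynomial (Fin n) (MvPowerSeries (Fin n) k) ⧸ rel a p) ≃ₐ[MvPowerSeries (Fin n) k]
      (MvPolynomial (Fin n) (MvPowerSeries (Fin n) k) ⧸ rel a p))
    (hσ : ∀ i, σ (Ideal.Quotient.mk (rel a p) (X i)) = Ideal.Quotient.mk (rel a p) (X i) + algebraMap _ _ (a i)) :
    Ideal.span (Set.range fun t => σ t - t) =
      (Ideal.span (Set.range a)).map (algebraMap _ (MvPolynomial (Fin n) (MvPowerSeries (Fin n) k) ⧸ rel a p)) := by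
  refine le_antisymm (Ideal.span_le.mpr ?_) ?_
  · rintro _ ⟨t, rfl⟩
    obtain ⟨q, rfl⟩ := Ideal.Quotient.mk_surjective t
    rw [SetLike.mem_coe]
    induction q using MvPolynomial.induction_on with
    | C r =>
      simp only [show Ideal.Quotient.mk (rel a p) (C r) = algebraMap (MvPowerSeries (Fin n) k) _ r from rfl, AlgEquiv.commutes, sub_self]
      exact zero_mem _
    | add q q' hq hq' => simp only [map_add, add_sub_add_comm]; exact add_mem hq hq'
    | mul_X q i hq =>
      simp only [map_mul] at hq ⊢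
      rw [show σ (Ideal.Quotient.mk (rel a p) q) * σ (Ideal.Quotient.mk (rel a p) (X i)) -
          Ideal.Quotient.mk (rel a p) q * Ideal.Quotient.mk (rel a p) (X i) =
        (σ (Ideal.Quotient.mk (rel a p) q) - Ideal.Quotient.mk (rel a p) q) * σ (Ideal.Quotient.mk (rel a p) (X i)) +
          Ideal.Quotient.mk (rel a p) q * (σ (Ideal.Quotient.mk (rel a p) (X i)) - Ideal.Quotient.mk (rel a p) (X i)) by ring]
      rw [mul_comm (σ (Ideal.Quotient.mk (rel a p) q) - _) (σ (Ideal.Quotient.mk (rel a p) (X i)))]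
      refine add_mem (Ideal.mul_mem_left _ _ hq) (Ideal.mul_mem_left _ _ ?_)
      rw [hσ, add_sub_cancel_left]
      exact Ideal.mem_map_of_mem _ (Ideal.subset_span ⟨i, rfl⟩)
  · rw [Ideal.map_span, ← Set.range_comp, Ideal.span_le]
    rintro _ ⟨i, rfl⟩
    exact Ideal.subset_span ⟨Ideal.Quotient.mk (rel a p) (X i), by rw [Function.comp_apply]; simp [hσ]⟩

theorem map_maximalIdeal_le_pow (hp : 1 < p) (ham : ∀ i, MvPowerSeries.constantCoeff (a i) = 0) :
    (maximalIdeal (MvPowerSeries (Fin n) k)).map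
      (algebraMap _ (MvPolynomial (Fin n) (MvPowerSeries (Fin n) k) ⧸ rel a p)) ≤ uIdeal a p ^ p := by
  rw [PSLib.maximalIdeal_eq_vars, PSLib.vars, Ideal.map_span, Ideal.span_le]
  rintro _ ⟨_, ⟨i, rfl⟩, rfl⟩
  have hu : Ideal.Quotient.mk (rel a p) (X i) ∈ uIdeal a p :=
    Ideal.mem_map_of_mem _ (Ideal.subset_span ⟨i, rfl⟩)
  rw [SetLike.mem_coe, show algebraMap _ _ (MvPowerSeries.X i) =
    (Ideal.Quotient.mk (rel a p) (X i)) ^ p -
      algebraMap _ _ (a i ^ (p - 1)) * Ideal.Quotient.mk (rel a p) (X i) by rw [u_pow]; ring]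
  refine sub_mem (Ideal.pow_mem_pow hu p) ?_
  rw [map_pow]
  have hai : algebraMap _ (MvPolynomial (Fin n) (MvPowerSeries (Fin n) k) ⧸ rel a p) (a i) ∈ uIdeal a p :=
    map_maximalIdeal_le hp (Ideal.mem_map_of_mem _ (by
      rw [mem_maximalIdeal, mem_nonunits_iff, MvPowerSeries.isUnit_iff_constantCoeff, ham]
      exact not_isUnit_zero))
  have hpow := Ideal.mul_mem_mul (Ideal.pow_mem_pow hai (p - 1)) hu
  rw [← pow_succ (uIdeal a p), Nat.sub_add_cancel hp.le] at hpow
  exact hpow

theorem fixed_le_pow (hp : 1 < p) (ham : ∀ i, MvPowerSeries.constantCoeff (a i) = 0)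
    (σ : (MvPolynomial (Fin n) (MvPowerSeries (Fin n) k) ⧸ rel a p) ≃ₐ[MvPowerSeries (Fin n) k]
      (MvPolynomial (Fin n) (MvPowerSeries (Fin n) k) ⧸ rel a p))
    (hσ : ∀ i, σ (Ideal.Quotient.mk (rel a p) (X i)) = Ideal.Quotient.mk (rel a p) (X i) + algebraMap _ _ (a i)) :
    Ideal.span (Set.range fun t => σ t - t) ≤ Ideal.span (Set.range fun i => Ideal.Quotient.mk (rel a p) (X i)) ^ p := by
  have hle : Ideal.span (Set.range a) ≤ maximalIdeal (MvPowerSeries (Fin n) k) := by
    rw [Ideal.span_le]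
    rintro _ ⟨i, rfl⟩
    rw [SetLike.mem_coe, mem_maximalIdeal, mem_nonunits_iff, MvPowerSeries.isUnit_iff_constantCoeff, ham]
    exact not_isUnit_zero
  have h1 := (Ideal.map_mono hle).trans (map_maximalIdeal_le_pow (a := a) hp ham)
  rw [uIdeal_eq] at h1
  exact (fixed_span_eq σ hσ).le.trans h1

theorem fixed_length (hp : 1 < p) (ham : ∀ i, MvPowerSeries.constantCoeff (a i) = 0)
    (σ : (MvPolynomial (Fin n) (MvPowerSeries (Fin n) k) ⧸ rel a p) ≃ₐ[MvPowerSeries (Fin n) k]
      (MvPolynomial (Fin n) (MvPowerSeries (Fin n) k) ⧸ rel a p))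
    (hσ : ∀ i, σ (Ideal.Quotient.mk (rel a p) (X i)) = Ideal.Quotient.mk (rel a p) (X i) + algebraMap _ _ (a i)) :
    Module.length (MvPolynomial (Fin n) (MvPowerSeries (Fin n) k) ⧸ rel a p)
        ((MvPolynomial (Fin n) (MvPowerSeries (Fin n) k) ⧸ rel a p) ⧸ Ideal.span (Set.range fun t => σ t - t)) =
          ((p ^ n : ℕ) : ℕ∞) * Module.length (MvPowerSeries (Fin n) k) (MvPowerSeries (Fin n) k ⧸ Ideal.span (Set.range a)) := by
  have hloc := isLocalRing (a := a) hp ham
  have hfree := free (a := a) hp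
  have hmax := uIdeal_isMaximal (a := a) hp ham
  have hml := map_maximalIdeal_le (a := a) hp
  have hc : ∀ z, ∃ r : MvPowerSeries (Fin n) k, z - algebraMap _ _ r ∈ uIdeal a p := fun z =>
    let ⟨c, hc⟩ := exists_const (a := a) hp z
    ⟨MvPowerSeries.C c, hc⟩
  have hf : @Module.Free (MvPowerSeries (Fin n) k) (MvPolynomial (Fin n) (MvPowerSeries (Fin n) k) ⧸ rel a p) _ _
      Algebra.toModule := hfree.1
  have hfin : @Module.Finite (MvPowerSeries (Fin n) k) (MvPolynomial (Fin n) (MvPowerSeries (Fin n) k) ⧸ rel a p) _ _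
      Algebra.toModule := hfree.2.1
  have hN : @Module.finrank (MvPowerSeries (Fin n) k) (MvPolynomial (Fin n) (MvPowerSeries (Fin n) k) ⧸ rel a p) _ _
      Algebra.toModule = p ^ n := hfree.2.2
  have h1 := @length_quotient_of_eq (MvPowerSeries (Fin n) k) (MvPolynomial (Fin n) (MvPowerSeries (Fin n) k) ⧸ rel a p) _ _ _ _ hloc hf hfin (p ^ n) hN (uIdeal a p) hmax hml hc
  have h2 := h1 (Ideal.span (Set.range a)) _ (fixed_span_eq σ hσ)
  exact h2

end Groth.Agent.AS7
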