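import Mathlib.FieldTheory.Galois.Basic
import Mathlib.RingTheory.IntegralClosure.IntegrallyClosed
import Mathlib.LinearAlgebra.Dimension.Localization
import Mathlib.RingTheory.Algebraic.Integral
import Mathlib.RingTheory.Localization.Finiteness

/-!
A finite extension with as many automorphisms as its rank has the base as ring of invariants.
-/

namespace Groth.Agent.AS7

variable {R A : Type*} [CommRing R] [IsDomain R] [IsIntegrallyClosed R] [CommRing A] [IsDomain A]
  [Algebra R A] [Module.Finite R A]

theorem mem_range_of_fixed_of_card (hinj : Function.Injective (algebraMap R A))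
    (hcard : Nat.card (A ≃ₐ[R] A) = Module.finrank R A) (b : A) (hb : ∀ σ : A ≃ₐ[R] A, σ b = b) :
    b ∈ Set.range (algebraMap R A) := by
  have : FaithfulSMul R A := (faithfulSMul_iff_algebraMap_injective R A).mpr hinj
  let K := FractionRing R
  let L := FractionRing A
  let := FractionRing.liftAlgebra R L
  have hKL : Module.finrank K L = Module.finrank R A := IsFractionRing.finrank_eq R K A L
  have : Module.Finite K L := Module.Finite.of_isLocalization R A (nonZeroDivisors R)
  let Φ := IsFractionRing.fieldEquivOfAlgEquivHom (A := R) (B := A) K L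
  let G : Subgroup (L ≃ₐ[K] L) := Φ.range
  have hG : Nat.card G = Module.finrank R A := by
    rw [← hcard]
    exact Nat.card_congr
      (MonoidHom.ofInjective (IsFractionRing.fieldEquivOfAlgEquivHom_injective R A K L)).toEquiv.symm
  have hbot : IntermediateField.fixedField G = ⊥ := by
    rw [← IntermediateField.finrank_eq_one_iff]
    have h1 := IntermediateField.finrank_fixedField_eq_card G
    have h2 := Module.finrank_mul_finrank K (IntermediateField.fixedField G) L
    rw [h1, hG, hKL] at h2
    have hpos : 0 < Module.finrank R A := hKL ▸ Module.finrank_pos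
    exact Nat.eq_of_mul_eq_mul_right hpos (h2.trans (one_mul _).symm)
  have hmem : algebraMap A L b ∈ IntermediateField.fixedField G := by
    rintro ⟨_, σ, rfl⟩
    show Φ σ (algebraMap A L b) = algebraMap A L b
    rw [IsFractionRing.fieldEquivOfAlgEquivHom_apply, IsFractionRing.fieldEquivOfAlgEquiv_algebraMap, hb]
  rw [hbot, IntermediateField.mem_bot] at hmem
  obtain ⟨x, hx⟩ := hmem
  have hint : IsIntegral R x := by
    have h1 : IsIntegral R (algebraMap A L b) :=
      ((Algebra.IsIntegral.of_finite R A).isIntegral b).map (IsScalarTower.toAlgHom R A L)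
    rw [← hx] at h1
    exact (isIntegral_algHom_iff (IsScalarTower.toAlgHom R K L) (algebraMap K L).injective).mp h1
  obtain ⟨r, hr⟩ := IsIntegrallyClosed.isIntegral_iff.mp hint
  exact ⟨r, IsFractionRing.injective A L (by
    rw [← IsScalarTower.algebraMap_apply, IsScalarTower.algebraMap_apply R K L, hr, hx])⟩

end Groth.Agent.AS7
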