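import Groth.Agent.AS7.Family
import Groth.Agent.AS7.FixedOfCard
import Groth.Agent.RegLoc6.Normal
import Mathlib.FieldTheory.Galois.Basic
import Mathlib.Algebra.CharP.Lemmas
import Mathlib.FieldTheory.Finite.Basic
import Mathlib.RingTheory.IntegralClosure.IntegrallyClosed
import Mathlib.LinearAlgebra.Dimension.Localization
import Mathlib.RingTheory.Algebraic.Integral

/-!
Automorphisms of the Artin–Schreier family: translations by multiples of the `a i`.
-/

set_option maxHeartbeats 1000000
set_option synthInstance.maxHeartbeats 200000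
attribute [-instance] Ideal.Quotient.semiring Ideal.Quotient.commSemiring

namespace Groth.Agent.AS7

universe u

open MvPolynomial IsLocalRing

variable {p n : ℕ} [hp : Fact p.Prime] {k : Type u} [Field k] [CharP k p]
  {a : Fin n → MvPowerSeries (Fin n) k}

/-- The prime field inside the power series ring. -/
noncomputable def cast (p n : ℕ) (k : Type u) [Field k] [CharP k p] :
    ZMod p →+* MvPowerSeries (Fin n) k :=
  MvPowerSeries.C.comp (ZMod.castHom (dvd_refl p) k)

omit hp in
theorem charP_power_series : CharP (MvPowerSeries (Fin n) k) p :=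
  charP_of_injective_ringHom (f := (MvPowerSeries.C : k →+* MvPowerSeries (Fin n) k))
    (RingHom.injective _) p

theorem algebraMap_injective : Function.Injective (algebraMap (MvPowerSeries (Fin n) k)
    (MvPolynomial (Fin n) (MvPowerSeries (Fin n) k) ⧸ rel a p)) := by
  rw [injective_iff_map_eq_zero]
  intro r hr
  obtain ⟨b, -⟩ := exists_basis_family (a := a) hp.out.one_lt
  have h1 : r • b (fun _ => ⟨0, hp.out.pos⟩) = 0 :=
    (algebra_compatible_smul (MvPolynomial (Fin n) (MvPowerSeries (Fin n) k) ⧸ rel a p) r _).trans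
      (by rw [hr]; exact zero_mul _)
  have h := congrArg (fun x => b.repr x (fun _ => ⟨0, hp.out.pos⟩)) h1
  simpa using h

omit hp in
theorem algHom_ext
    {f g : (MvPolynomial (Fin n) (MvPowerSeries (Fin n) k) ⧸ rel a p) →ₐ[MvPowerSeries (Fin n) k]
      (MvPolynomial (Fin n) (MvPowerSeries (Fin n) k) ⧸ rel a p)}
    (h : ∀ i, f (Ideal.Quotient.mk (rel a p) (X i)) = g (Ideal.Quotient.mk (rel a p) (X i))) : f = g :=
  Ideal.Quotient.algHom_ext _ (MvPolynomial.algHom_ext h)

theorem cast_pow (j : ZMod p) : cast p n k j ^ p = cast p n k j := by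
  rw [← map_pow, ZMod.pow_card]

theorem rel_le_ker (s : Fin n → ZMod p) : rel a p ≤ RingHom.ker (MvPolynomial.aeval fun i =>
    Ideal.Quotient.mk (rel a p) (X i) + algebraMap (MvPowerSeries (Fin n) k)
      (MvPolynomial (Fin n) (MvPowerSeries (Fin n) k) ⧸ rel a p) (cast p n k (s i) * a i) :
      MvPolynomial (Fin n) (MvPowerSeries (Fin n) k) →ₐ[MvPowerSeries (Fin n) k] _).toRingHom := by
  have : CharP (MvPowerSeries (Fin n) k) p := charP_power_series
  have : CharP (MvPolynomial (Fin n) (MvPowerSeries (Fin n) k) ⧸ rel a p) p :=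
    charP_of_injective_ringHom algebraMap_injective p
  refine Ideal.span_le.mpr ?_
  rintro _ ⟨i, rfl⟩
  simp only [SetLike.mem_coe, RingHom.mem_ker, AlgHom.toRingHom_eq_coe, RingHom.coe_coe, map_sub, map_mul,
    map_pow, MvPolynomial.aeval_X, MvPolynomial.aeval_C]
  rw [add_pow_expChar, u_pow]
  conv_lhs => rw [← map_mul, ← map_pow, mul_pow, cast_pow,
    show a i ^ p = a i ^ (p - 1) * a i by rw [← pow_succ, Nat.sub_add_cancel hp.out.one_le]]
  simp only [map_mul, map_pow]
  ring

/-- The translation `u_i ↦ u_i + s_i a_i` as an endomorphism. -/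
noncomputable def transHom (a : Fin n → MvPowerSeries (Fin n) k) (s : Fin n → ZMod p) :
    (MvPolynomial (Fin n) (MvPowerSeries (Fin n) k) ⧸ rel a p) →ₐ[MvPowerSeries (Fin n) k]
      (MvPolynomial (Fin n) (MvPowerSeries (Fin n) k) ⧸ rel a p) :=
  Ideal.Quotient.liftₐ (rel a p) _ fun _ hz => rel_le_ker s hz

theorem transHom_u (s : Fin n → ZMod p) (i : Fin n) :
    transHom a s (Ideal.Quotient.mk (rel a p) (X i)) = Ideal.Quotient.mk (rel a p) (X i) +
      algebraMap (MvPowerSeries (Fin n) k) _ (cast p n k (s i) * a i) :=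
  MvPolynomial.aeval_X _ i

theorem transHom_comp (s t : Fin n → ZMod p) :
    (transHom a s).comp (transHom a t) = transHom a (s + t) := by
  refine algHom_ext (a := a) (p := p) fun i => ?_
  rw [AlgHom.comp_apply, transHom_u, map_add, transHom_u, AlgHom.commutes, transHom_u, add_assoc,
    ← map_add, Pi.add_apply, map_add (cast p n k), add_mul]

theorem transHom_zero : transHom a (0 : Fin n → ZMod p) = AlgHom.id _ _ := by
  refine algHom_ext (a := a) (p := p) fun i => ?_
  rw [transHom_u, Pi.zero_apply, map_zero, zero_mul, map_zero, add_zero, AlgHom.id_apply]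

/-- The translation `u_i ↦ u_i + s_i a_i`. -/
noncomputable def trans (a : Fin n → MvPowerSeries (Fin n) k) (s : Fin n → ZMod p) :
    (MvPolynomial (Fin n) (MvPowerSeries (Fin n) k) ⧸ rel a p) ≃ₐ[MvPowerSeries (Fin n) k]
      (MvPolynomial (Fin n) (MvPowerSeries (Fin n) k) ⧸ rel a p) :=
  AlgEquiv.ofAlgHom (transHom a s) (transHom a (-s))
    (by rw [transHom_comp, add_neg_cancel, transHom_zero])
    (by rw [transHom_comp, neg_add_cancel, transHom_zero])

theorem trans_u (s : Fin n → ZMod p) (i : Fin n) :
    trans a s (Ideal.Quotient.mk (rel a p) (X i)) = Ideal.Quotient.mk (rel a p) (X i) +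
      algebraMap (MvPowerSeries (Fin n) k) _ (cast p n k (s i) * a i) :=
  transHom_u s i

theorem trans_mul (s t : Fin n → ZMod p) : trans a s * trans a t = trans a (s + t) :=
  AlgEquiv.ext fun x => DFunLike.congr_fun (transHom_comp s t) x

theorem trans_zero : trans a (0 : Fin n → ZMod p) = 1 :=
  AlgEquiv.ext fun x => DFunLike.congr_fun transHom_zero x

theorem trans_pow (s : Fin n → ZMod p) (m : ℕ) : trans a s ^ m = trans a (m • s) := by
  induction m with
  | zero => rw [pow_zero, zero_nsmul, trans_zero]
  | succ m ih => rw [pow_succ, ih, trans_mul, succ_nsmul]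

variable (ha0 : ∀ i, a i ≠ 0) (ham : ∀ i, MvPowerSeries.constantCoeff (a i) = 0)
include ha0 ham

omit ham in
theorem trans_injective : Function.Injective (trans (p := p) a) := fun s t e => funext fun i => by
  have h := DFunLike.congr_fun e (Ideal.Quotient.mk (rel a p) (X i))
  rw [trans_u, trans_u, add_right_inj] at h
  exact ((MvPowerSeries.C).comp (ZMod.castHom (dvd_refl p) k)).injective
    (mul_right_cancel₀ (ha0 i) (algebraMap_injective h))

theorem exists_eq_trans (σ : (MvPolynomial (Fin n) (MvPowerSeries (Fin n) k) ⧸ rel a p) ≃ₐ[MvPowerSeries (Fin n) k]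
      (MvPolynomial (Fin n) (MvPowerSeries (Fin n) k) ⧸ rel a p)) : ∃ s, trans a s = σ := by
  classical
  let A := MvPolynomial (Fin n) (MvPowerSeries (Fin n) k) ⧸ rel a p
  have : IsDomain A := isDomain hp.out.one_lt ham
  have : CharP (MvPowerSeries (Fin n) k) p := charP_power_series
  have : CharP A p := charP_of_injective_ringHom algebraMap_injective p
  have key : ∀ i, ∃ j : ZMod p, σ (Ideal.Quotient.mk (rel a p) (X i)) -
      Ideal.Quotient.mk (rel a p) (X i) = algebraMap _ A (cast p n k j * a i) := fun i => by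
    set u := Ideal.Quotient.mk (rel a p) (X i)
    set c := algebraMap (MvPowerSeries (Fin n) k) A (a i) with hc
    by_contra! hne
    let P : Polynomial A := Polynomial.X ^ p - Polynomial.C (c ^ (p - 1)) * Polynomial.X
    have hdeg : P.natDegree = p ∧ P ≠ 0 := by
      have h1 : (Polynomial.C (c ^ (p - 1)) * Polynomial.X).degree < (p : WithBot ℕ) :=
        lt_of_le_of_lt (Polynomial.degree_C_mul_X_le _) (by exact_mod_cast hp.out.one_lt)
      exact ⟨Polynomial.natDegree_eq_of_degree_eq_some (by
        rw [Polynomial.degree_sub_eq_left_of_degree_lt (by rwa [Polynomial.degree_X_pow]),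
          Polynomial.degree_X_pow]), (Polynomial.monic_X_pow_sub h1).ne_zero⟩
    let Z : Finset A := insert (σ u - u) (Finset.univ.image fun j : ZMod p => algebraMap _ A (cast p n k j * a i))
    have hZ : Z.val ⊆ P.roots := by
      intro z hz
      rw [Polynomial.mem_roots hdeg.2, Polynomial.IsRoot.def]
      simp only [P, Polynomial.eval_sub, Polynomial.eval_pow, Polynomial.eval_X, Polynomial.eval_mul,
        Polynomial.eval_C]
      rcases Finset.mem_insert.mp (show z ∈ Z from hz) with rfl | hz'
      · have : ExpChar A p := .prime hp.out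
        have e : (σ u - u) ^ p = σ u ^ p - u ^ p := sub_pow_expChar (R := A) (p := p) (σ u) u
        rw [e, ← map_pow σ, show u ^ p = _ from u_pow i, map_add, map_mul, AlgEquiv.commutes,
          AlgEquiv.commutes, hc, ← map_pow]
        ring
      · obtain ⟨j, -, rfl⟩ := Finset.mem_image.mp hz'
        rw [hc, ← map_pow, ← map_pow, ← map_mul, ← map_sub, mul_pow, cast_pow,
          show a i ^ p = a i ^ (p - 1) * a i by rw [← pow_succ, Nat.sub_add_cancel hp.out.one_le],
          ← map_zero (algebraMap (MvPowerSeries (Fin n) k) A)]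
        exact congrArg _ (by ring)
    have h := Polynomial.card_le_degree_of_subset_roots hZ
    have hcard : Z.card = p + 1 := by
      rw [Finset.card_insert_of_notMem, Finset.card_image_of_injective]
      · simp
      · exact fun j j' e => ((MvPowerSeries.C).comp (ZMod.castHom (dvd_refl p) k)).injective
          (mul_right_cancel₀ (ha0 i) (algebraMap_injective e))
      · intro hmem
        obtain ⟨j, -, hj⟩ := Finset.mem_image.mp hmem
        exact hne j hj.symm
    rw [hcard, hdeg.1] at h
    omega
  choose s hs using key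
  refine ⟨s, AlgEquiv.ext fun x => ?_⟩
  refine DFunLike.congr_fun (algHom_ext (f := (trans a s).toAlgHom) (g := σ.toAlgHom) fun i => ?_) x
  show trans a s _ = σ _
  rw [trans_u, ← hs, add_sub_cancel]

theorem card_aut : Nat.card ((MvPolynomial (Fin n) (MvPowerSeries (Fin n) k) ⧸ rel a p) ≃ₐ[MvPowerSeries (Fin n) k]
      (MvPolynomial (Fin n) (MvPowerSeries (Fin n) k) ⧸ rel a p)) = p ^ n := by
  rw [← Nat.card_eq_of_bijective (trans a) ⟨trans_injective ha0, fun σ => exists_eq_trans ha0 ham σ⟩]
  simp

theorem mem_range_of_fixed (b : MvPolynomial (Fin n) (MvPowerSeries (Fin n) k) ⧸ rel a p)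
    (hb : ∀ s : Fin n → ZMod p, trans a s b = b) :
    b ∈ Set.range (algebraMap (MvPowerSeries (Fin n) k) _) := by
  let R := MvPowerSeries (Fin n) k
  let A := MvPolynomial (Fin n) (MvPowerSeries (Fin n) k) ⧸ rel a p
  have : IsDomain A := isDomain hp.out.one_lt ham
  have : IsRegularLocalRing R := PSLib.isRegularLocalRing k n
  have : IsIntegrallyClosed R := RegLoc6.isIntegrallyClosed_of_isRegularLocalRing R
  obtain ⟨-, hfin, hrank⟩ := free (a := a) hp.out.one_lt
  have : IsDomain R := RegLoc6.isDomain_of_isRegularLocalRing R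
  have hfin' : Finite ((MvPolynomial (Fin n) (MvPowerSeries (Fin n) k) ⧸ rel a p) ≃ₐ[R] A) :=
    Finite.of_surjective (trans a) fun σ => exists_eq_trans ha0 ham σ
  refine mem_range_of_fixed_of_card (R := R) (A := A) algebraMap_injective
    ((card_aut ha0 ham).trans hrank.symm) b fun σ => ?_
  obtain ⟨s, rfl⟩ := exists_eq_trans ha0 ham σ
  exact hb s

end Groth.Agent.AS7
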