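import Mathlib

/-!
Symmetrising form of the skew group ring of an Artin–Schreier family: the top coefficient in the
monomial box basis is invariant under translations and gives a perfect pairing.
-/

namespace Groth.Agent.AS7.Symmetric

universe u v w

section Box

variable {R : Type u} [CommRing R] {A : Type v} [CommRing A] [Algebra R A] {p n : ℕ} (hp : 1 < p)
  (b : Module.Basis (Fin n → Fin p) R A) {u : Fin n → A} {c d : Fin n → R}
  (hb : ∀ e, b e = ∏ i, u i ^ (e i : ℕ)) (hrel : ∀ i, u i ^ p = c i • u i + d i • 1)

/-- The exponent `(p-1, …, p-1)`. -/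
def top : Fin n → Fin p := fun _ => ⟨p - 1, by omega⟩

/-- Span of the basis monomials with fixed exponent at `i`. -/
def slice (i : Fin n) (m : ℕ) : Submodule R A := Submodule.span R (b '' {e | (e i : ℕ) = m})

include hb in
theorem basis_update (e : Fin n → Fin p) (j : Fin n) (k : Fin p) :
    b (Function.update e j k) = u j ^ (k : ℕ) * ∏ x ∈ Finset.univ.erase j, u x ^ (e x : ℕ) := by
  rw [hb, ← Finset.mul_prod_erase _ _ (Finset.mem_univ j), Function.update_self]
  refine congrArg _ (Finset.prod_congr rfl fun x hx => ?_)
  rw [Function.update_of_ne (Finset.ne_of_mem_erase hx)]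

include hp hb hrel in
theorem mul_mem_slice {i j : Fin n} (hij : j ≠ i) (m : ℕ) {x : A} (hx : x ∈ slice b i m) :
    u j * x ∈ slice b i m := by
  have hmem : ∀ (e : Fin n → Fin p) (k : Fin p), (e i : ℕ) = m → b (Function.update e j k) ∈ slice b i m :=
    fun e k he => Submodule.subset_span ⟨_, by
      show ((Function.update e j k) i : ℕ) = m
      rw [Function.update_of_ne hij.symm, he], rfl⟩
  induction hx using Submodule.span_induction with
  | zero => rw [mul_zero]; exact zero_mem _
  | add x y _ _ h h' => rw [mul_add]; exact add_mem h h'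
  | smul r x _ h => rw [mul_smul_comm]; exact Submodule.smul_mem _ r h
  | mem x hx =>
    obtain ⟨e, he, rfl⟩ := hx
    have hbe : b e = u j ^ (e j : ℕ) * ∏ x ∈ Finset.univ.erase j, u x ^ (e x : ℕ) := by
      conv_lhs => rw [← Function.update_eq_self j e]
      exact basis_update b hb e j _
    rw [hbe, ← mul_assoc, ← pow_succ']
    rcases Nat.lt_or_ge ((e j : ℕ) + 1) p with h | h
    · have := hmem e ⟨_, h⟩ he
      rwa [basis_update b hb] at this
    · have h' : (e j : ℕ) + 1 = p := by have := (e j).2; omega
      rw [h', hrel, add_mul, smul_mul_assoc, smul_mul_assoc]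
      refine add_mem (Submodule.smul_mem _ _ ?_) (Submodule.smul_mem _ _ ?_)
      · have := hmem e ⟨1, hp⟩ he
        rw [basis_update b hb] at this
        simpa using this
      · have := hmem e ⟨0, by omega⟩ he
        rw [basis_update b hb] at this
        simpa using this

include hb hrel in
theorem coord_prod_eq_zero (m : Fin n → ℕ) {i : Fin n} (hi : m i < p - 1) :
    b.coord (top hp) (∏ x, u x ^ m x) = 0 := by
  have key : ∏ x, u x ^ m x ∈ slice b i (m i) := by
    rw [← Finset.mul_prod_erase _ _ (Finset.mem_univ i)]
    have base : ∀ t : Finset (Fin n), i ∉ t → u i ^ m i * ∏ x ∈ t, u x ^ m x ∈ slice b i (m i) := by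
      intro t
      induction t using Finset.induction with
      | empty =>
        intro _
        rw [Finset.prod_empty, mul_one]
        refine Submodule.subset_span ⟨Function.update (fun _ => ⟨0, by omega⟩) i ⟨m i, by omega⟩, ?_, ?_⟩
        · simp [Set.mem_setOf_eq, Function.update_self]
        · rw [basis_update b hb]
          simp
      | insert j t hj ih =>
        intro hi'
        rw [Finset.prod_insert hj, mul_left_comm]
        have hji : j ≠ i := fun h => hi' (h ▸ Finset.mem_insert_self j t)
        generalize m j = k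
        induction k with
        | zero => rw [pow_zero, one_mul]; exact ih fun h => hi' (Finset.mem_insert_of_mem h)
        | succ k hk => rw [pow_succ', mul_assoc]; exact mul_mem_slice hp b hb hrel hji _ hk
    exact base _ (Finset.notMem_erase i _)
  have hle : slice b i (m i) ≤ LinearMap.ker (b.coord (top hp)) := Submodule.span_le.mpr <| by
    rintro _ ⟨e, he : (e i : ℕ) = m i, rfl⟩
    rw [SetLike.mem_coe, LinearMap.mem_ker, Module.Basis.coord_apply, b.repr_self, Finsupp.single_apply,
      if_neg]
    rintro rfl
    have : p - 1 = m i := he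
    omega
  exact hle key

include hb in
theorem coord_prod_top : b.coord (top hp) (∏ x, u x ^ (p - 1)) = 1 := by
  have := hb (top hp)
  rw [show (fun x => u x ^ ((top hp x : Fin p) : ℕ)) = fun x => u x ^ (p - 1) from rfl] at this
  rw [← this, Module.Basis.coord_apply, b.repr_self, Finsupp.single_eq_same]

include hb hrel in
/-- The top coefficient is invariant under translations. -/
theorem coord_invariant {σ : A →ₐ[R] A} {s : Fin n → R}
    (hσ : ∀ i, σ (u i) = u i + algebraMap R A (s i)) (x : A) :
    b.coord (top hp) (σ x) = b.coord (top hp) x := by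
  refine LinearMap.congr_fun (show (b.coord (top hp)).comp σ.toLinearMap = b.coord (top hp) from b.ext fun e => ?_) x
  show b.coord (top hp) (σ (b e)) = b.coord (top hp) (b e)
  rw [hb, map_prod]
  simp only [map_pow, hσ]
  have hexp : ∀ i, (u i + algebraMap R A (s i)) ^ (e i : ℕ) =
      ∑ k : Fin p, (((e i : ℕ).choose k : R) * s i ^ ((e i : ℕ) - k)) • u i ^ (k : ℕ) := fun i => by
    rw [add_pow, Fin.sum_univ_eq_sum_range (fun k => (((e i : ℕ).choose k : R) * s i ^ ((e i : ℕ) - k)) • u i ^ k) p,
      ← Finset.sum_subset (Finset.range_subset_range.mpr (e i).2)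
        (fun k _ hk => by rw [Nat.choose_eq_zero_of_lt (by simpa [Nat.lt_succ_iff] using hk)]; simp)]
    exact Finset.sum_congr rfl fun k _ => by
      rw [Algebra.smul_def, map_mul, map_natCast, map_pow]; ring
  simp only [hexp, Fintype.prod_sum, map_sum, Finset.prod_smul, map_smul]
  rw [Finset.sum_eq_single (top hp) (fun f _ hf => ?_) (fun h => absurd (Finset.mem_univ _) h)]
  · rw [show (fun x => u x ^ ((top hp x : Fin p) : ℕ)) = fun x => u x ^ (p - 1) from rfl,
      coord_prod_top hp b hb, smul_eq_mul, mul_one]
    by_cases he : e = top hp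
    · subst he
      rw [show (fun x => u x ^ ((top hp x : Fin p) : ℕ)) = fun x => u x ^ (p - 1) from rfl,
        coord_prod_top hp b hb]
      refine Finset.prod_eq_one fun i _ => ?_
      simp
    · obtain ⟨i, hi⟩ := Function.ne_iff.mp he
      have hlt : (e i : ℕ) < p - 1 := by
        have := (e i).2
        have : (e i : ℕ) ≠ p - 1 := fun h => hi (Fin.ext h)
        omega
      rw [coord_prod_eq_zero hp b hb hrel _ hlt, Finset.prod_eq_zero (Finset.mem_univ i)]
      rw [Nat.choose_eq_zero_of_lt (show (e i : ℕ) < ((top hp i : Fin p) : ℕ) from hlt)]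
      simp
  · obtain ⟨i, hi⟩ := Function.ne_iff.mp hf
    have hlt : (f i : ℕ) < p - 1 := by
      have := (f i).2
      have : (f i : ℕ) ≠ p - 1 := fun h => hi (Fin.ext h)
      omega
    rw [coord_prod_eq_zero hp b hb hrel _ hlt, smul_zero]

/-- The pairing `y ↦ (x ↦ λ (x y))`. -/
noncomputable def pairing : A →ₗ[R] Module.Dual R A :=
  ((LinearMap.mul R A).compr₂ (b.coord (top hp))).flip

theorem pairing_apply (x y : A) : pairing hp b y x = b.coord (top hp) (x * y) := rfl

include hb hrel in
theorem pairing_bijective : Function.Bijective (pairing hp b) := by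
  classical
  have hmem : ∀ N, ∀ e₀ : Fin n → Fin p, ∑ i, (p - 1 - (e₀ i : ℕ)) = N →
      b.coord e₀ ∈ LinearMap.range (pairing hp b) := by
    intro N
    induction N using Nat.strong_induction_on with
    | _ N ih =>
      intro e₀ hN
      let y := b fun i => ⟨p - 1 - (e₀ i : ℕ), by have := (e₀ i).2; omega⟩
      have hval : ∀ e, pairing hp b y (b e) =
          b.coord (top hp) (∏ i, u i ^ ((e i : ℕ) + (p - 1 - (e₀ i : ℕ)))) := fun e => by
        rw [pairing_apply]
        simp only [y, hb, ← Finset.prod_mul_distrib, pow_add]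
      have hrest : pairing hp b y - b.coord e₀ ∈ LinearMap.range (pairing hp b) := by
        rw [← b.sum_dual_apply_smul_coord (pairing hp b y - b.coord e₀)]
        refine sum_mem fun e _ => ?_
        by_cases h0 : (pairing hp b y - b.coord e₀) (b e) = 0
        · rw [h0, zero_smul]; exact zero_mem _
        refine Submodule.smul_mem _ _ (ih _ ?_ e rfl)
        have hne : e ≠ e₀ := by
          rintro rfl
          apply h0
          rw [LinearMap.sub_apply, hval, Module.Basis.coord_apply b e, b.repr_self, Finsupp.single_eq_same,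
            show (fun i => u i ^ ((e i : ℕ) + (p - 1 - (e i : ℕ)))) = fun i => u i ^ (p - 1) from
              funext fun i => by have := (e i).2; congr 1; omega,
            coord_prod_top hp b hb, sub_self]
        have hge : ∀ i, (e₀ i : ℕ) ≤ e i := by
          intro i
          by_contra hlt
          apply h0
          rw [LinearMap.sub_apply, hval, Module.Basis.coord_apply b e₀, b.repr_self,
            Finsupp.single_eq_of_ne (Ne.symm hne),
            coord_prod_eq_zero hp b hb hrel _ (i := i) (by have := (e₀ i).2; omega), sub_zero]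
        rw [← hN]
        obtain ⟨i, hi⟩ := Function.ne_iff.mp hne
        refine Finset.sum_lt_sum (fun j _ => by have := hge j; omega) ⟨i, Finset.mem_univ i, ?_⟩
        have := hge i
        have := (e i).2
        have : (e i : ℕ) ≠ e₀ i := fun h => hi (Fin.ext h)
        omega
      simpa using sub_mem (LinearMap.mem_range_self (pairing hp b) y) hrest
  have hsurj : Function.Surjective (pairing hp b) := by
    rw [← LinearMap.range_eq_top, eq_top_iff]
    rintro f -
    rw [← b.sum_dual_apply_smul_coord f]
    exact sum_mem fun e _ => Submodule.smul_mem _ _ (hmem _ e rfl)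
  refine ⟨?_, hsurj⟩
  haveI := Module.Finite.of_basis b
  have := OrzechProperty.injective_of_surjective_endomorphism (b.toDualEquiv.symm.toLinearMap ∘ₗ pairing hp b)
    (b.toDualEquiv.symm.surjective.comp hsurj)
  exact fun x y h => this (congrArg b.toDualEquiv.symm h)

end Box

section Skew

variable {R : Type u} [CommRing R] {A : Type v} [CommRing A] [Algebra R A] {G : Type w} [Group G] [Finite G]
  [MulSemiringAction G A] [SMulCommClass G R A]

open SkewMonoidAlgebra in
/-- A `G`-invariant perfect form on `A` gives a symmetrising form on `A[G]`. -/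
theorem exists_symmetric (l : A →ₗ[R] R) (hinv : ∀ (g : G) (z : A), l (g • z) = l z)
    (hbij : Function.Bijective fun y : A => ((LinearMap.mul R A).compr₂ l).flip y) :
    ∃ φ : SkewMonoidAlgebra A G →ₗ[R] R,
      (∀ x y : SkewMonoidAlgebra A G, φ (x * y) = φ (y * x)) ∧
      Function.Injective (fun y : SkewMonoidAlgebra A G => fun x : SkewMonoidAlgebra A G => φ (x * y)) ∧
      ∀ ψ : SkewMonoidAlgebra A G →ₗ[R] R, ∃ y : SkewMonoidAlgebra A G, ∀ x, ψ x = φ (x * y) := by
  classical
  let φ : SkewMonoidAlgebra A G →ₗ[R] R := l.comp ((Finsupp.lapply 1).comp coeffLinearEquiv.toLinearMap)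
  have hφ : ∀ f : SkewMonoidAlgebra A G, φ f = l (f.coeff 1) := fun f => rfl
  have hsm : ∀ (g : G) (a : A) (f : SkewMonoidAlgebra A G),
      φ (single g a * f) = l (a * g • f.coeff g⁻¹) := fun g a f => by
    rw [hφ, coeff_single_mul_aux (z := g⁻¹) f fun t => ⟨fun h => eq_inv_of_mul_eq_one_right h, fun h => by rw [h, mul_inv_cancel]⟩]
  refine ⟨φ, fun x y => ?_, fun y y' h => ?_, fun ψ => ?_⟩
  · induction x using SkewMonoidAlgebra.induction_on with
    | zero => rw [zero_mul, mul_zero]
    | add f f' h h' => rw [add_mul, mul_add, map_add, map_add, h, h']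
    | single g a =>
      rw [hsm, hφ, coeff_mul_single_aux (y := g⁻¹) y fun t => ⟨fun h => eq_inv_of_mul_eq_one_left h, fun h => by rw [h, inv_mul_cancel]⟩,
        ← hinv g (y.coeff g⁻¹ * g⁻¹ • a), smul_mul', smul_inv_smul, mul_comm]
  · apply coeff_injective
    refine Finsupp.ext fun g => smul_left_cancel g⁻¹ (hbij.1 (LinearMap.ext fun a => ?_))
    have := congrFun h (single g⁻¹ a)
    simp only [hsm, inv_inv] at this
    exact this
  · let sl : G → A →ₗ[R] SkewMonoidAlgebra A G := fun g =>
      { toFun := fun a => single g a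
        map_add' := fun a a' => (single_add g a a')
        map_smul' := fun r a => (smul_single r g a).symm }
    choose c hc using fun g : G => hbij.2 (ψ.comp (sl g))
    refine ⟨ofCoeff (Finsupp.equivFunOnFinite.symm fun h => h • c h⁻¹), fun x => ?_⟩
    induction x using SkewMonoidAlgebra.induction_on with
    | zero => rw [zero_mul, map_zero, map_zero]
    | add f f' h h' => rw [add_mul, map_add, map_add, h, h']
    | single g a =>
      rw [hsm]
      show _ = l (a * g • (g⁻¹ • c g⁻¹⁻¹))
      rw [inv_inv, smul_inv_smul]
      exact (LinearMap.congr_fun (hc g) a).symm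

end Skew

/-- Symmetrising form for a group generated by a translation of a monomial-box algebra. -/
theorem exists_symmetric_of_translation {R : Type u} [CommRing R] {A : Type v} [CommRing A] [Algebra R A]
    {G : Type w} [Group G] [Finite G] [MulSemiringAction G A] [SMulCommClass G R A] {p n : ℕ} (hp : 1 < p)
    (b : Module.Basis (Fin n → Fin p) R A) {u : Fin n → A} {c d s : Fin n → R}
    (hb : ∀ e, b e = ∏ i, u i ^ (e i : ℕ)) (hrel : ∀ i, u i ^ p = algebraMap R A (c i) * u i + algebraMap R A (d i))
    (g : G) (hgen : ∀ h : G, h ∈ Subgroup.zpowers g) (hg : ∀ i, g • u i = u i + algebraMap R A (s i)) :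
    ∃ φ : SkewMonoidAlgebra A G →ₗ[R] R,
      (∀ x y : SkewMonoidAlgebra A G, φ (x * y) = φ (y * x)) ∧
      Function.Injective (fun y : SkewMonoidAlgebra A G => fun x : SkewMonoidAlgebra A G => φ (x * y)) ∧
      ∀ ψ : SkewMonoidAlgebra A G →ₗ[R] R, ∃ y : SkewMonoidAlgebra A G, ∀ x, ψ x = φ (x * y) := by
  have hrel' : ∀ i, u i ^ p = c i • u i + d i • (1 : A) := fun i => by
    rw [hrel, Algebra.smul_def, Algebra.smul_def, mul_one]
  let S : Subgroup G :=
    { carrier := {h | ∀ z : A, b.coord (top hp) (h • z) = b.coord (top hp) z}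
      one_mem' := fun z => by rw [one_smul]
      mul_mem' := fun {x y} hx hy z => by rw [mul_smul, hx, hy]
      inv_mem' := fun {x} hx z => by rw [← hx (x⁻¹ • z), smul_inv_smul] }
  have hgS : g ∈ S := fun z => coord_invariant hp b hb hrel' (σ := MulSemiringAction.toAlgHom R A g) (s := s) hg z
  exact exists_symmetric (b.coord (top hp)) (fun h => (Subgroup.zpowers_le.mpr hgS) (hgen h))
    (pairing_bijective hp b hb hrel')

end Groth.Agent.AS7.Symmetric
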