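import Mathlib.RingTheory.AdjoinRoot
import Mathlib.RingTheory.AlgebraTower
import Mathlib.RingTheory.MvPolynomial.Basic
import Mathlib.RingTheory.IntegralClosure.IsIntegral.Basic
import Mathlib.LinearAlgebra.Basis.Basic

/-!
Algebras cut out by monic polynomials in separate variables are free on the monomial box.
-/

namespace Groth.Agent.AS7

universe u

variable {R : Type u} [CommRing R] [Nontrivial R] {p : ℕ}

/-- A model of the free algebra with separate monic relations. -/
theorem exists_model : ∀ (n : ℕ) (f : Fin n → Polynomial R),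
    (∀ i, (f i).Monic) → (∀ i, (f i).natDegree = p) → 0 < p →
    ∃ (B : Type u) (_ : CommRing B) (_ : Algebra R B) (u : Fin n → B)
      (b : Module.Basis (Fin n → Fin p) R B), (∀ i, Polynomial.aeval (u i) (f i) = 0) ∧
        ∀ e, b e = ∏ i, u i ^ (e i : ℕ) := by
  intro n
  induction n with
  | zero =>
    intro f _ _ _
    exact ⟨R, inferInstance, inferInstance, Fin.elim0, Module.Basis.singleton _ R,
      fun i => i.elim0, fun e => by simp⟩
  | succ n ih =>
    intro f hf hd hp
    obtain ⟨B, _, _, u, b, hu, hb⟩ := ih (fun i => f i.succ) (fun i => hf _) (fun i => hd _) hp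
    have hne : Nonempty (Fin n → Fin p) := ⟨fun _ => ⟨0, hp⟩⟩
    have : Nontrivial B := b.repr.toEquiv.nontrivial
    let g := (f 0).map (algebraMap R B)
    have hg : g.Monic := (hf 0).map _
    let pb := AdjoinRoot.powerBasis' hg
    have hdim : pb.dim = p := by simp [pb, g, (hf 0).natDegree_map, hd 0]
    let c := b.smulTower pb.basis
    let e : (Fin n → Fin p) × Fin pb.dim ≃ (Fin (n + 1) → Fin p) :=
      (Equiv.prodComm _ _).trans (((finCongr hdim).prodCongr (Equiv.refl _)).trans
        (Fin.consEquiv fun _ => Fin p))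
    refine ⟨AdjoinRoot g, inferInstance, inferInstance,
      Fin.cons (AdjoinRoot.root g) (fun i => algebraMap B _ (u i)), c.reindex e, fun i => ?_, fun x => ?_⟩
    · refine Fin.cases ?_ (fun i => ?_) i
      · rw [Fin.cons_zero, ← Polynomial.aeval_map_algebraMap B]
        exact AdjoinRoot.eval₂_root g
      · rw [Fin.cons_succ, Polynomial.aeval_algebraMap_apply, hu, map_zero]
    · rw [Module.Basis.reindex_apply, Module.Basis.smulTower_apply, PowerBasis.coe_basis, hb,
        Fin.prod_univ_succ, Algebra.smul_def, mul_comm, map_prod, Fin.cons_zero]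
      simp only [Fin.cons_succ, map_pow, pb, AdjoinRoot.powerBasis'_gen]
      rfl

variable {A : Type*} [CommRing A] [Algebra R A]

omit [Nontrivial R] in
/-- The monomial box spans a finitely generated algebra with monic relations. -/
theorem span_box {n : ℕ} (f : Fin n → Polynomial R) (hf : ∀ i, (f i).Monic)
    (hd : ∀ i, (f i).natDegree = p) (hp : 0 < p) (u : Fin n → A)
    (hu : ∀ i, Polynomial.aeval (u i) (f i) = 0) (hgen : Algebra.adjoin R (Set.range u) = ⊤) :
    Submodule.span R (Set.range fun e : Fin n → Fin p => ∏ i, u i ^ (e i : ℕ)) = ⊤ := by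
  classical
  set N := Submodule.span R (Set.range fun e : Fin n → Fin p => ∏ i, u i ^ (e i : ℕ)) with hN
  have hmul : ∀ i, ∀ x ∈ N, u i * x ∈ N := by
    intro i x hx
    induction hx using Submodule.span_induction with
    | mem x hx =>
      obtain ⟨e, rfl⟩ := hx
      have hsplit : ∀ j : ℕ, ∀ hj : j < p, u i ^ j * ∏ l ∈ Finset.univ.erase i, u l ^ (e l : ℕ) ∈ N := by
        intro j hj
        refine Submodule.subset_span ⟨Function.update e i ⟨j, hj⟩, ?_⟩
        show ∏ l, u l ^ ((Function.update e i ⟨j, hj⟩ l : Fin p) : ℕ) = _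
        rw [← Finset.mul_prod_erase _ _ (Finset.mem_univ i), Function.update_self]
        exact congrArg _ (Finset.prod_congr rfl fun l hl => by
          rw [Function.update_of_ne (Finset.ne_of_mem_erase hl)])
      show u i * ∏ l, u l ^ (e l : ℕ) ∈ N
      rw [← Finset.mul_prod_erase _ _ (Finset.mem_univ i), ← mul_assoc, ← pow_succ']
      by_cases hlt : (e i : ℕ) + 1 < p
      · exact hsplit _ hlt
      · have heq : (e i : ℕ) + 1 = p := by have := (e i).isLt; omega
        rw [heq]
        have h0 := hu i
        rw [Polynomial.aeval_eq_sum_range, hd i, Finset.sum_range_succ, ← hd i,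
          (hf i).coeff_natDegree, hd i, one_smul, add_comm, add_eq_zero_iff_eq_neg] at h0
        rw [h0, neg_mul, Finset.sum_mul]
        refine N.neg_mem (N.sum_mem fun j hj => ?_)
        rw [smul_mul_assoc]
        exact N.smul_mem _ (hsplit j (Finset.mem_range.mp hj))
    | zero => simp
    | add a b _ _ ha hb => rw [mul_add]; exact add_mem ha hb
    | smul r a _ ha => rw [mul_smul_comm]; exact N.smul_mem r ha
  have h1 : (1 : A) ∈ N := Submodule.subset_span ⟨fun _ => ⟨0, hp⟩, by simp⟩
  refine eq_top_iff.mpr ?_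
  rintro a -
  have ha : a ∈ Algebra.adjoin R (Set.range u) := by rw [hgen]; trivial
  suffices ∀ x ∈ N, a * x ∈ N by simpa using this 1 h1
  induction ha using Algebra.adjoin_induction with
  | mem x hx => obtain ⟨i, rfl⟩ := hx; exact hmul i
  | algebraMap r => exact fun x hx => by rw [← Algebra.smul_def]; exact N.smul_mem r hx
  | add x y _ _ ha hb => exact fun z hz => by rw [add_mul]; exact add_mem (ha z hz) (hb z hz)
  | mul x y _ _ ha hb => exact fun z hz => by rw [mul_assoc]; exact ha _ (hb z hz)

/-- The monomial box is a basis of the presented algebra. -/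
theorem exists_basis {n : ℕ} (f : Fin n → Polynomial R) (hf : ∀ i, (f i).Monic)
    (hd : ∀ i, (f i).natDegree = p) (hp : 0 < p) :
    ∃ b : Module.Basis (Fin n → Fin p) R (MvPolynomial (Fin n) R ⧸
        Ideal.span (Set.range fun i => Polynomial.aeval (MvPolynomial.X i : MvPolynomial (Fin n) R) (f i))),
      ∀ e, b e = ∏ i, (Ideal.Quotient.mk _ (MvPolynomial.X i)) ^ (e i : ℕ) := by
  set I := Ideal.span (Set.range fun i => Polynomial.aeval (MvPolynomial.X i : MvPolynomial (Fin n) R) (f i))
  let u : Fin n → MvPolynomial (Fin n) R ⧸ I := fun i => Ideal.Quotient.mk I (MvPolynomial.X i)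
  have hu : ∀ i, Polynomial.aeval (u i) (f i) = 0 := fun i => by
    show Polynomial.aeval (Ideal.Quotient.mkₐ R I (MvPolynomial.X i)) (f i) = 0
    rw [Polynomial.aeval_algHom_apply]
    exact Ideal.Quotient.eq_zero_iff_mem.mpr (Ideal.subset_span ⟨i, rfl⟩)
  have hgen : Algebra.adjoin R (Set.range u) = ⊤ := by
    rw [show Set.range u = Ideal.Quotient.mkₐ R I '' Set.range MvPolynomial.X by
      rw [← Set.range_comp]; rfl, ← AlgHom.map_adjoin, MvPolynomial.adjoin_range_X, Algebra.map_top,
      AlgHom.range_eq_top]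
    exact Ideal.Quotient.mk_surjective
  obtain ⟨B, _, _, w, b, hw, hb⟩ := exists_model n f hf hd hp
  let φ : MvPolynomial (Fin n) R ⧸ I →ₐ[R] B := Ideal.Quotient.liftₐ I (MvPolynomial.aeval w) (by
    intro z hz
    refine Submodule.span_induction (p := fun z _ => MvPolynomial.aeval w z = 0) ?_ (map_zero _)
      (fun x y _ _ hx hy => by rw [map_add, hx, hy, add_zero])
      (fun a x _ hx => by rw [smul_eq_mul, map_mul, hx, mul_zero]) hz
    rintro _ ⟨i, rfl⟩
    rw [← Polynomial.aeval_algHom_apply, MvPolynomial.aeval_X, hw])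
  have hφ : ∀ e : Fin n → Fin p, φ (∏ i, u i ^ (e i : ℕ)) = b e := fun e => by
    rw [map_prod, hb]
    refine Finset.prod_congr rfl fun i _ => ?_
    rw [map_pow]
    exact congrArg (· ^ (e i : ℕ)) (MvPolynomial.aeval_X w i)
  refine ⟨Module.Basis.mk (LinearIndependent.of_comp φ.toLinearMap ?_)
    (span_box f hf hd hp u hu hgen).ge, fun e => Module.Basis.mk_apply ..⟩
  rw [show φ.toLinearMap ∘ (fun e : Fin n → Fin p => ∏ i, u i ^ (e i : ℕ)) = b from funext hφ]
  exact b.linearIndependent

end Groth.Agent.AS7
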